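import Cfsg.Agent.Lib.Helper11.F23S.Data
import Cfsg.Agent.Lib.Helper11.SylEA

set_option autoImplicit false
set_option maxRecDepth 100000

namespace Cfsg.Agent.Lib.Helper11.F23S

open Cfsg.Agent.Lib.Helper11 Cfsg.Agent.Lib.Helper11.SylEA

set_option maxHeartbeats 0
set_option Elab.async false

theorem nets3OK : ntl3.all (fun net => net.all (stOK (2 ^ (2 ^ 15)))) = true := by decide +kernel
theorem macOKA : macChk (ntOf ntl3) 15 11 macsA = true := by decide +kernel
theorem macOKB : macChk (ntOf ntl3) 15 18 macsB = true := by decide +kernel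
theorem macOKC : macChk (ntOf ntl3) 15 24 macsC = true := by decide +kernel

end Cfsg.Agent.Lib.Helper11.F23S
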