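import Cfsg.Agent.Lib.Helper11.F23S.ChkA

set_option autoImplicit false
set_option maxRecDepth 100000

namespace Cfsg.Agent.Lib.Helper11.F23S

open Cfsg.Agent.Lib.Helper11 Cfsg.Agent.Lib.Helper11.SylEA

set_option maxHeartbeats 0
set_option Elab.async false

theorem c1 : eL.all (fun a => wordEq (ntOf ntl3) 15 [a, a] [] &&
    eL.all (fun b => wordEq (ntOf ntl3) 15 [a, b] [b, a])) = true := by decide +kernel
theorem c2 : eL.all (fun a => (List.range 23).all (fun k =>
    Nat.beq (applyWord (ntOf ntl3) [a] (Nat.pow 2 (om k))) (Nat.pow 2 (om k)))) = true := by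
  decide +kernel
theorem c3 : tL.all (fun g => (List.range 23).all (fun k =>
    Nat.beq (applyWord (ntOf ntl3) [g] (Nat.pow 2 (om (tau g k)))) (Nat.pow 2 (om k)))) = true := by
  decide +kernel

end Cfsg.Agent.Lib.Helper11.F23S
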