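import Cfsg.Agent.Lib.Helper11.F23S.ChkB

set_option autoImplicit false
set_option maxRecDepth 100000

namespace Cfsg.Agent.Lib.Helper11.F23S

open Cfsg.Agent.Lib.Helper11 Cfsg.Agent.Lib.Helper11.SylEA

set_option maxHeartbeats 0
set_option Elab.async false

theorem c4a : (List.range 23).all (fun k =>
    wordEq (ntOf ntl3) 15 (29 :: evW eL (cs k)) (evW eL (cs (tau 29 k)) ++ [29])) = true := by
  decide +kernel
theorem c4b : (List.range 23).all (fun k =>
    wordEq (ntOf ntl3) 15 (30 :: evW eL (cs k)) (evW eL (cs (tau 30 k)) ++ [30])) = true := by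
  decide +kernel
theorem c4c : (List.range 23).all (fun k =>
    wordEq (ntOf ntl3) 15 (31 :: evW eL (cs k)) (evW eL (cs (tau 31 k)) ++ [31])) = true := by
  decide +kernel
theorem c4 : tL.all (fun g => (List.range 23).all (fun k =>
    wordEq (ntOf ntl3) 15 (g :: evW eL (cs k)) (evW eL (cs (tau g k)) ++ [g]))) = true := by
  rw [List.all_eq_true]
  intro g hg
  simp only [tL, List.mem_cons, List.mem_nil_iff, or_false] at hg
  rcases hg with rfl | rfl | rfl
  · exact c4a
  · exact c4b
  · exact c4c

end Cfsg.Agent.Lib.Helper11.F23S
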