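import Cfsg.Agent.Lib.Helper11.F23S.ChkC

set_option autoImplicit false
set_option maxRecDepth 100000

namespace Cfsg.Agent.Lib.Helper11.F23S

open Cfsg.Agent.Lib.Helper11 Cfsg.Agent.Lib.Helper11.SylEA

set_option maxHeartbeats 0
set_option Elab.async false

theorem c5 : tL.all (fun g => (List.range 23).all (fun k => decide (tau g k < 23)) &&
    (List.range 128).all (fun i => (List.range 128).any (fun i' =>
      (List.range 23).all (fun k => Sig i' k == Sig i (tau g k))))) = true := by decide +kernel
theorem c6 : chainChkC (ntOf ntl3) (fun l => decide (l < 32)) 15 levK [] = true := by decide +kernel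
theorem c7 : chainChkC (ntOf ntl3) (fun l => eL.contains l) 15 levE [] = true := by decide +kernel
theorem c8 : chainChkC (ntOf ntl3) (fun l => (tL ++ eL).contains l) 15 levT [] = true := by
  decide +kernel
theorem c11 : noCl (adjB Sig 23) 200 (15 + 1) ((List.range 128).filter (fun i => i != 0)) = true := by
  decide +kernel
theorem c12 : (List.range 128).all (fun i => i == 0 || !invB Sig 23 i ||
    (List.range (2 ^ 11)).all (fun x => !(xorL (msOf Sig cs 11 i) x == x) || (masks i).testBit x)) = true := by
  decide +kernel
theorem c13 : (List.range 128).all (fun i => i == 0 || !invB Sig 23 i ||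
    Nat.ble (pcnt 11 (masks i)) 128) = true := by decide +kernel
theorem c14 : (List.range 128).all (fun i => (List.range 128).all (fun j =>
    i == 0 || j == 0 || i == j || !adjB Sig 23 i j ||
    Nat.ble (pcnt 11 (masks i &&& masks j)) 64)) = true := by decide +kernel

end Cfsg.Agent.Lib.Helper11.F23S
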