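import Cfsg.Agent.Lib.Helper11.F23S.ChkD
import Cfsg.Agent.S1697

set_option autoImplicit false
set_option maxRecDepth 100000

namespace Cfsg.Agent.Lib.Helper11.F23S

open Cfsg.Agent.Lib.Helper11 Cfsg.Agent.Lib.Helper11.SylEA

set_option maxHeartbeats 0

theorem hNT : ∀ l, ∀ st ∈ ntOf ntl3 l, stOK (2 ^ (2 ^ 15)) st = true := ntOf_ok ntl3 _ nets3OK

theorem hrange : ∀ l < 32, netPerm (ntOf ntl3 l) ∈ Fi23o.psi.range := by
  have h0 : ∀ l < 11, netPerm (ntOf ntl3 l) ∈ Fi23o.psi.range := by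
    intro l hl
    refine ⟨PresentedGroup.mk _ ((WExp.l l).eval (fun l => Fi23o.LTFm.getD l 1)), ?_⟩
    rw [Fi23o.psi_eval]
    show wordPerm (ntOf Fi23o.ntl) [l] = _
    rw [wordPerm_single]
    congr 1
    unfold ntOf ntl3
    have hlen : Fi23o.ntl.length = 11 := by decide +kernel
    rw [List.getD_append _ _ _ _ (by omega)]
  have h1 := macChk_spec Fi23o.psi (ntOf ntl3) 15 hNT macsA 11 macOKA h0
  have h2 := macChk_spec Fi23o.psi (ntOf ntl3) 15 hNT macsB 18 macOKB h1
  exact macChk_spec Fi23o.psi (ntOf ntl3) 15 hNT macsC 24 macOKC h2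

theorem hcard : Nat.card Cfsg.Spor.Fi23 = 4089470473293004800 := Cfsg.Agent.S1697.result.2

theorem hinj : Function.Injective Fi23o.psi := by
  rw [← MonoidHom.ker_eq_bot_iff, eq_bot_iff]
  intro g hg
  rw [← (Fi23o.order Cfsg.Agent.S1697.card_le).2]
  intro b _
  rw [MonoidHom.mem_ker.1 hg]
  rfl

theorem main : ∃ T0 : Subgroup Cfsg.Spor.Fi23, Nat.card T0 = 128 * 2 ^ 11 ∧ QP 11 T0 := by
  haveI : Finite Cfsg.Spor.Fi23 := Nat.finite_of_card_ne_zero Cfsg.Agent.S1697.card_le.1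
  exact master Fi23o.psi hinj (ntOf ntl3) 15 hNT 32 hrange eL tL (by decide) om cs Sig tau masks
    23 128 11 levK levE levT c1 c2 c3 c4 c5 c6 c7 c8 rfl (by norm_num) (by norm_num)
    (by decide) (by decide) (by decide) (by decide +kernel) (by decide) (by decide) (by decide)
    (by rw [hcard]; decide +kernel) (by decide +kernel) (by decide +kernel)
    200 15 128 64 c11 c12 c13 c14 (by norm_num) (by norm_num)

end Cfsg.Agent.Lib.Helper11.F23S
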